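import Mathlib

/-!
# Maps out of formal power series rings into algebras with nilpotent ideals

A power series minus its constant term lies in the ideal of the variables, so algebra maps into an algebra
with a nilpotent ideal containing the images of the variables are determined by those images; they exist
for any nilpotent images.
-/

universe u v w
noncomputable section
open MvPowerSeries

namespace Groth.Agent.ArtPow

variable {σ : Type w} [Fintype σ] {R : Type u} [CommRing R]

lemma sub_C_constantCoeff_mem (f : MvPowerSeries σ R) :
    f - C (constantCoeff f) ∈ Ideal.span (Set.range (X : σ → MvPowerSeries σ R)) := by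
  classical
  let ι : (σ →₀ ℕ) → Option σ := fun d => if h : ∃ i, d i ≠ 0 then some h.choose else none
  let g : σ → MvPowerSeries σ R := fun i e =>
    if ι (e + Finsupp.single i 1) = some i then coeff (e + Finsupp.single i 1) f else 0
  have hsum : f - C (constantCoeff f) = ∑ i, X i * g i := by
    ext e
    rw [map_sub, map_sum, coeff_C]
    have hterm : ∀ i, coeff e (X i * g i) =
        if Finsupp.single i 1 ≤ e ∧ ι e = some i then coeff e f else 0 := by
      intro i
      rw [X_def, coeff_monomial_mul, one_mul]
      by_cases h : Finsupp.single i 1 ≤ e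
      · rw [if_pos h]
        show (if ι (e - Finsupp.single i 1 + Finsupp.single i 1) = some i then _ else 0) = _
        rw [tsub_add_cancel_of_le h]
        simp [h]
      · rw [if_neg h, if_neg (fun h' => h h'.1)]
    simp only [hterm]
    by_cases h : ∃ i, e i ≠ 0
    · have he : e ≠ 0 := fun h0 => by simp [h0] at h
      rw [if_neg he, sub_zero, Finset.sum_eq_single h.choose]
      · rw [if_pos]
        exact ⟨Finsupp.single_le_iff.mpr (Nat.one_le_iff_ne_zero.mpr h.choose_spec), by simp [ι, h]⟩
      · intro i _ hi
        rw [if_neg]
        rintro ⟨-, h2⟩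
        simp only [ι, dif_pos h, Option.some.injEq] at h2
        exact hi h2.symm
      · simp
    · push Not at h
      have he : e = 0 := Finsupp.ext h
      subst he
      rw [if_pos rfl, coeff_zero_eq_constantCoeff_apply, sub_self]
      exact (Finset.sum_eq_zero fun i _ => if_neg fun h' => by simp [ι] at h').symm
  rw [hsum]
  exact sum_mem fun i _ => Ideal.mul_mem_right _ _ (Ideal.subset_span ⟨i, rfl⟩)

lemma span_X_eq_maximalIdeal {k : Type u} [Field k] :
    Ideal.span (Set.range (X : σ → MvPowerSeries σ k)) = IsLocalRing.maximalIdeal (MvPowerSeries σ k) := by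
  apply le_antisymm
  · rw [Ideal.span_le]
    rintro _ ⟨i, rfl⟩
    rw [SetLike.mem_coe, IsLocalRing.mem_maximalIdeal, mem_nonunits_iff, isUnit_iff_constantCoeff,
      constantCoeff_X]
    exact not_isUnit_zero
  · intro f hf
    have h0 : constantCoeff f = 0 := by
      rw [IsLocalRing.mem_maximalIdeal, mem_nonunits_iff, isUnit_iff_constantCoeff, isUnit_iff_ne_zero,
        not_not] at hf
      exact hf
    simpa [h0] using sub_C_constantCoeff_mem f

variable {A : Type v} [CommRing A] [Algebra R A]

/-- Evaluation at nilpotent elements. -/
def evalNil (c : σ → A) (hc : ∀ i, IsNilpotent (c i)) : MvPowerSeries σ R →ₐ[R] A :=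
  ({ (constantCoeff (σ := Empty) (R := A)) with
      commutes' := fun r => by
        show constantCoeff (algebraMap R (MvPowerSeries Empty A) r) = _
        rw [MvPowerSeries.algebraMap_apply, constantCoeff_C] } : MvPowerSeries Empty A →ₐ[R] A).comp
    (substAlgHom (a := fun i => (C (c i) : MvPowerSeries Empty A))
      (hasSubst_of_constantCoeff_nilpotent fun i => by simpa using hc i))

@[simp] lemma evalNil_X (c : σ → A) (hc : ∀ i, IsNilpotent (c i)) (i : σ) :
    evalNil (R := R) c hc (X i) = c i := by
  rw [evalNil, AlgHom.comp_apply, substAlgHom_X]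
  exact constantCoeff_C (c i)

/-- Maps sending the variables into a nilpotent ideal are determined by the images of the variables. -/
theorem algHom_ext {I : Ideal A} {N : ℕ} (hI : I ^ N = ⊥) {φ ψ : MvPowerSeries σ R →ₐ[R] A}
    (hX : ∀ i, φ (X i) = ψ (X i)) (hφ : ∀ i, φ (X i) ∈ I) : φ = ψ := by
  have key : ∀ n f, φ f - ψ f ∈ I ^ n := by
    intro n
    induction n with
    | zero => simp
    | succ n ih =>
      intro f
      obtain ⟨g, hg⟩ := (Ideal.mem_span_range_iff_exists_fun).mp (sub_C_constantCoeff_mem f)
      rw [← sub_add_cancel f (C (constantCoeff f)), ← hg,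
        show (C (constantCoeff f) : MvPowerSeries σ R) = algebraMap R _ (constantCoeff f) by
          rw [MvPowerSeries.algebraMap_apply, Algebra.algebraMap_self, RingHom.id_apply]]
      simp only [map_add, map_sum, map_mul, AlgHom.commutes, add_sub_add_right_eq_sub,
        ← Finset.sum_sub_distrib]
      refine sum_mem fun i _ => ?_
      rw [← hX i, ← sub_mul, pow_succ]
      exact Ideal.mul_mem_mul (ih _) (hφ i)
  refine AlgHom.ext fun f => sub_eq_zero.mp ?_
  simpa [hI] using key N f

end Groth.Agent.ArtPow
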