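import Groth.Agent.ArtPow.Basic
import Groth.Prelude.Def_ArtFun2

/-!
# Presentations of complete local rings with residue field the base field

A complete Noetherian local `k`-algebra with residue field `k` is `k[[x_1, …, x_d]]/J` with `J` inside
the square of the maximal ideal.
-/

universe u
noncomputable section
open IsLocalRing

namespace Groth.Agent.ArtPow

variable {k : Type u} [Field k]

/-- Evaluation of power series at elements of the ideal of a complete ring. -/
theorem exists_evalComplete {σ : Type} [Fintype σ] {B : Type u} [CommRing B] [Algebra k B] (I : Ideal B)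
    [IsAdicComplete I B] (c : σ → B) (hc : ∀ i, c i ∈ I) :
    ∃ ψ : MvPowerSeries σ k →ₐ[k] B, ∀ i, ψ (MvPowerSeries.X i) = c i := by
  have hnil : ∀ n, ∀ i, IsNilpotent (Ideal.Quotient.mk (I ^ n) (c i)) := fun n i =>
    ⟨n, by rw [← map_pow, Ideal.Quotient.eq_zero_iff_mem]; exact Ideal.pow_mem_pow (hc i) n⟩
  let f : ∀ n, MvPowerSeries σ k →ₐ[k] B ⧸ I ^ n := fun n => evalNil _ (hnil n)
  have hf : ∀ {m n : ℕ} (hle : m ≤ n),
      (Ideal.Quotient.factorPow I hle).comp (f n).toRingHom = (f m).toRingHom := by
    intro m n hle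
    let φ : B ⧸ I ^ n →ₐ[k] B ⧸ I ^ m :=
      { Ideal.Quotient.factorPow I hle with commutes' := fun _ => rfl }
    have hN : (I.map (Ideal.Quotient.mk (I ^ m))) ^ m = ⊥ := by rw [← Ideal.map_pow, Ideal.map_quotient_self]
    have e : φ.comp (f n) = f m := by
      refine algHom_ext hN (fun i => ?_) (fun i => ?_)
      · rw [AlgHom.comp_apply, evalNil_X, evalNil_X]
        rfl
      · rw [AlgHom.comp_apply, evalNil_X]
        exact Ideal.mem_map_of_mem _ (hc i)
    exact congr_arg AlgHom.toRingHom e
  let ψ₀ := IsAdicComplete.liftRingHom I (fun n => (f n).toRingHom) hf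
  have hψ : ∀ n x, Ideal.Quotient.mk (I ^ n) (ψ₀ x) = f n x := fun n x =>
    IsAdicComplete.mk_liftRingHom I (fun n => (f n).toRingHom) hf n x
  have heq : ∀ x y : B, (∀ n, Ideal.Quotient.mk (I ^ n) x = Ideal.Quotient.mk (I ^ n) y) → x = y := by
    intro x y h
    refine sub_eq_zero.mp (IsHausdorff.haus' (I := I) _ fun n => ?_)
    rw [SModEq.sub_mem, sub_zero, smul_eq_mul, Ideal.mul_top]
    exact Ideal.Quotient.eq.mp (h n)
  refine ⟨{ ψ₀ with commutes' := fun r => heq _ _ fun n => ?_ }, fun i => heq _ _ fun n => ?_⟩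
  · exact (hψ n _).trans ((f n).commutes r)
  · exact (hψ n _).trans (evalNil_X _ _ i)

/-- A minimal presentation. -/
theorem exists_presentation (R : ArtFun.CRing k k) :
    ∃ (d : ℕ) (J : Ideal (MvPowerSeries (Fin d) k)),
      J ≤ maximalIdeal (MvPowerSeries (Fin d) k) ^ 2 ∧
        Nonempty ((MvPowerSeries (Fin d) k ⧸ J) ≃ₐ[k] R.carrier) := by
  classical
  have hmR : RingHom.ker (R.res : R.carrier →+* k) = maximalIdeal R.carrier :=
    IsLocalRing.eq_maximalIdeal (RingHom.ker_isMaximal_of_surjective (R.res : R.carrier →+* k) R.res_surjective)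
  have hres : ∀ y : R.carrier, y - algebraMap k R.carrier (R.res y) ∈ maximalIdeal R.carrier := fun y => by
    rw [← hmR, RingHom.mem_ker]
    show R.res (y - algebraMap k R.carrier (R.res y)) = 0
    rw [map_sub, AlgHom.commutes, Algebra.algebraMap_self, RingHom.id_apply, sub_self]
  let b := Module.finBasis (ResidueField R.carrier) (CotangentSpace R.carrier)
  choose x hx using fun i => Ideal.toCotangent_surjective (maximalIdeal R.carrier) (b i)
  have := R.isAdicComplete
  obtain ⟨ψ, hψ⟩ := exists_evalComplete (k := k) (maximalIdeal R.carrier) (fun i => (x i : R.carrier))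
    (fun i => (x i).2)
  have hspan : Submodule.span R.carrier (Set.range x) = ⊤ := by
    rw [← CotangentSpace.span_image_eq_top_iff, ← Set.range_comp]
    have e : ((maximalIdeal R.carrier).toCotangent ∘ x) = b := funext hx
    rw [e]
    exact b.span_eq
  have hmap : Ideal.map ψ.toRingHom (maximalIdeal (MvPowerSeries (Fin (Module.finrank (ResidueField R.carrier)
      (CotangentSpace R.carrier))) k)) = maximalIdeal R.carrier := by
    rw [← span_X_eq_maximalIdeal, Ideal.map_span, ← Set.range_comp]
    apply le_antisymm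
    · rw [Ideal.span_le]
      rintro _ ⟨i, rfl⟩
      show ψ (MvPowerSeries.X i) ∈ maximalIdeal R.carrier
      rw [hψ]
      exact (x i).2
    · intro y hy
      have h : (⟨y, hy⟩ : maximalIdeal R.carrier) ∈ Submodule.span R.carrier (Set.range x) :=
        hspan ▸ Submodule.mem_top
      obtain ⟨a, ha⟩ := Submodule.mem_span_range_iff_exists_fun R.carrier |>.mp h
      have ha' := congr_arg Subtype.val ha
      simp only [Submodule.coe_sum, Submodule.coe_smul, smul_eq_mul] at ha'
      rw [← ha']
      exact sum_mem fun i _ => Ideal.mul_mem_left _ _ (Ideal.subset_span ⟨i, hψ i⟩)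
  have hsurj : Function.Surjective ψ := by
    have : IsPrecomplete (maximalIdeal (MvPowerSeries (Fin (Module.finrank (ResidueField R.carrier)
        (CotangentSpace R.carrier))) k)) (MvPowerSeries (Fin (Module.finrank (ResidueField R.carrier)
        (CotangentSpace R.carrier))) k) := by rw [← span_X_eq_maximalIdeal]; infer_instance
    have : IsHausdorff ((maximalIdeal (MvPowerSeries (Fin (Module.finrank (ResidueField R.carrier)
        (CotangentSpace R.carrier))) k)).map ψ.toRingHom) R.carrier := by rw [hmap]; infer_instance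
    refine surjective_of_mk_map_comp_surjective (I := maximalIdeal _) (f := ψ.toRingHom) fun z => ?_
    obtain ⟨y, rfl⟩ := Ideal.Quotient.mk_surjective z
    refine ⟨algebraMap k _ (R.res y), ?_⟩
    rw [RingHom.comp_apply, Ideal.Quotient.eq, hmap,
      show ψ.toRingHom (algebraMap k _ (R.res y)) = algebraMap k R.carrier (R.res y) from ψ.commutes _,
      ← neg_sub]
    exact neg_mem (hres y)
  refine ⟨_, RingHom.ker ψ, fun f hf => ?_, ⟨Ideal.quotientKerAlgEquivOfSurjective hsurj⟩⟩
  -- minimality
  obtain ⟨g, hg⟩ := (Ideal.mem_span_range_iff_exists_fun).mp (sub_C_constantCoeff_mem f)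
  have hker : ψ f = 0 := hf
  have h0 : MvPowerSeries.constantCoeff f = 0 := by
    by_contra hne
    have hu : IsUnit f := MvPowerSeries.isUnit_iff_constantCoeff.mpr (isUnit_iff_ne_zero.mpr hne)
    have := hu.map ψ
    rw [hker] at this
    exact not_isUnit_zero this
  rw [h0, map_zero, sub_zero] at hg
  have hlin : ∑ i, residue R.carrier (ψ (g i)) • b i = 0 := by
    have e : (∑ i, ψ (g i) • x i : maximalIdeal R.carrier) = 0 := by
      refine Subtype.ext ?_
      simp only [Submodule.coe_sum, Submodule.coe_smul, smul_eq_mul, ZeroMemClass.coe_zero]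
      rw [← hker, ← hg, map_sum]
      exact Finset.sum_congr rfl fun i _ => by rw [map_mul, hψ]
    have := congr_arg (maximalIdeal R.carrier).toCotangent e
    rw [map_sum, map_zero] at this
    simp only [map_smul, hx] at this
    refine Eq.trans (Finset.sum_congr rfl fun i _ => ?_) this
    exact algebraMap_smul (ResidueField R.carrier) (ψ (g i)) (b i)
  have hgi : ∀ i, MvPowerSeries.constantCoeff (g i) = 0 := by
    intro i
    have h := Fintype.linearIndependent_iff.mp b.linearIndependent _ hlin i
    rw [residue_eq_zero_iff] at h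
    by_contra hne
    exact h ((MvPowerSeries.isUnit_iff_constantCoeff.mpr (isUnit_iff_ne_zero.mpr hne)).map ψ)
  rw [← hg, pow_two, ← span_X_eq_maximalIdeal]
  refine sum_mem fun i _ => Ideal.mul_mem_mul ?_ (Ideal.subset_span ⟨i, rfl⟩)
  simpa [hgi i] using sub_C_constantCoeff_mem (g i)

end Groth.Agent.ArtPow
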